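import Groth.Agent.Adic7.Basic
import Groth.Agent.S0549
import Mathlib

/-!
# Approximation of separable extensions of complete discretely valued fields
-/

universe u

open Polynomial

namespace Groth.Agent.Krasner7

theorem exists_small_root {A : Type u} [CommRing A] (I : Ideal A) [IsAdicComplete I A] (q u : A) (hu : IsUnit u)
    (G : A[X]) (c : ℕ) (hc : 1 ≤ c) (hq : q ∈ I ^ c) :
    ∃ z ∈ I ^ c, q + u * z + z ^ 2 * G.eval z = 0 := by
  obtain ⟨v, hv⟩ := hu.exists_left_inv
  let h : A → A := fun z => q + u * z + z ^ 2 * G.eval z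
  let t : ℕ → A := fun j => Nat.rec 0 (fun _ x => x - v * h x) j
  have hts : ∀ j, t (j + 1) = t j - v * h (t j) := fun j => rfl
  have key : ∀ j, t j ∈ I ^ c ∧ h (t j) ∈ I ^ (c + j) := by
    intro j
    induction j with
    | zero => exact ⟨zero_mem _, by simpa [h, t] using hq⟩
    | succ j ih =>
      obtain ⟨h1, h2⟩ := ih
      have hx : t (j + 1) ∈ I ^ c := by
        rw [hts]
        exact sub_mem h1 (Ideal.mul_mem_left _ _ (Ideal.pow_le_pow_right (Nat.le_add_right c j) h2))
      refine ⟨hx, ?_⟩
      obtain ⟨w, hw⟩ := Polynomial.sub_dvd_eval_sub (t (j + 1)) (t j) G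
      have e : h (t (j + 1)) = (t (j + 1) - t j) *
          (t (j + 1) ^ 2 * w + (t (j + 1) + t j) * G.eval (t j)) := by
        simp only [h]
        rw [hts] at hw ⊢
        linear_combination (t j - v * h (t j)) ^ 2 * hw - h (t j) * hv
      rw [e]
      have hm : ∀ {x : A}, x ∈ I ^ c → x ∈ I := fun hx => Ideal.pow_le_self (by omega) hx
      have hb : t (j + 1) ^ 2 * w + (t (j + 1) + t j) * G.eval (t j) ∈ I :=
        add_mem (Ideal.mul_mem_right _ _ (Ideal.pow_mem_of_mem I (hm hx) 2 (by omega)))
          (Ideal.mul_mem_right _ _ (add_mem (hm hx) (hm h1)))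
      rw [← add_assoc, pow_succ I (c + j)]
      refine Ideal.mul_mem_mul ?_ hb
      rw [hts, sub_sub_cancel_left]
      exact neg_mem (Ideal.mul_mem_left _ _ h2)
  obtain ⟨z, hz⟩ := IsPrecomplete.prec (inferInstance : IsPrecomplete I A) (f := t) (fun {a b} hab => by
    induction b, hab using Nat.le_induction with
    | base => rfl
    | succ b hab ih =>
      refine ih.trans ?_
      rw [SModEq.sub_mem, hts, sub_sub_cancel, smul_eq_mul, Ideal.mul_top]
      exact Ideal.mul_mem_left _ _ (Ideal.pow_le_pow_right (by omega) (key b).2))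
  have hd : ∀ n, t n - z ∈ I ^ n := fun n => by
    have := hz n
    rwa [SModEq.sub_mem, smul_eq_mul, Ideal.mul_top] at this
  refine ⟨z, ?_, IsHausdorff.haus (inferInstance : IsHausdorff I A) _ (fun n => ?_)⟩
  · rw [← sub_sub_cancel (t c) z]
    exact sub_mem (key c).1 (hd c)
  · rw [SModEq.sub_mem, sub_zero, smul_eq_mul, Ideal.mul_top]
    have e1 : (C q + C u * X + X ^ 2 * G).eval (t n) - (C q + C u * X + X ^ 2 * G).eval z ∈ I ^ n :=
      Ideal.mem_of_dvd _ (Polynomial.sub_dvd_eval_sub _ _ _) (hd n)
    simp only [eval_add, eval_C, eval_mul, eval_X, eval_pow] at e1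
    simpa [h] using sub_mem (Ideal.pow_le_pow_right (Nat.le_add_left n c) (key n).2) e1

/-- A nearby polynomial has a nearby root, once `P'(α)` divides a power of `t`. -/
theorem exists_root_near {R : Type u} [CommRing R] (t : R) [IsAdicComplete (Ideal.span {t}) R] (P : R[X]) (α : R)
    (hα : P.eval α = 0) (k : ℕ) (hk : (derivative P).eval α ∣ t ^ k) (c : ℕ) (g : R[X])
    (hg : ∀ i, t ^ (k + k + (c + 1)) ∣ (g - P).coeff i) :
    ∃ β : R, g.eval β = 0 ∧ β - α ∈ Ideal.span {t ^ c} := by
  set d := (derivative P).eval α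
  obtain ⟨w, hw⟩ := hk
  have hsplit : ∀ x, t ^ (k + k + (c + 1)) ∣ x → ∃ y ∈ Ideal.span {t} ^ (c + 1), x = d ^ 2 * y := by
    rintro x ⟨z, rfl⟩
    refine ⟨w * w * t ^ (c + 1) * z, Ideal.mul_mem_right _ _ (Ideal.mul_mem_left _ _ ?_), ?_⟩
    · rw [Ideal.span_singleton_pow]; exact Ideal.mem_span_singleton_self _
    · rw [pow_add, pow_add, hw]; ring
  set Q := g - P
  have hQe : t ^ (k + k + (c + 1)) ∣ Q.eval α := by
    rw [eval_eq_sum, sum_def]
    exact Finset.dvd_sum fun i _ => dvd_mul_of_dvd_left (hg i) _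
  have hQd : t ^ (k + k + (c + 1)) ∣ (derivative Q).eval α := by
    rw [eval_eq_sum, sum_def]
    refine Finset.dvd_sum fun i _ => dvd_mul_of_dvd_left ?_ _
    rw [coeff_derivative]
    exact dvd_mul_of_dvd_left (hg _) _
  obtain ⟨q, hqm, hq⟩ := hsplit _ hQe
  obtain ⟨q', hq'm, hq'⟩ := hsplit _ hQd
  have hu : IsUnit (1 + d * q') := by
    have h1 : q' * d ∈ Ideal.jacobson (⊥ : Ideal R) :=
      IsAdicComplete.le_jacobson_bot (Ideal.span {t}) (Ideal.mul_mem_right _ _ (Ideal.pow_le_self (by omega) hq'm))
    simpa [mul_comm, add_comm] using Ideal.mem_jacobson_bot.mp h1 1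
  set T := taylor α g
  obtain ⟨z, hzm, hz⟩ := exists_small_root (Ideal.span {t}) q _ hu (T.divX.divX.comp (C d * X)) (c + 1) (by omega) hqm
  refine ⟨α + d * z, ?_, ?_⟩
  · have hgP : g = P + Q := by ring
    have e0 : T.coeff 0 = d ^ 2 * q := by
      rw [taylor_coeff_zero, hgP, eval_add, hα, zero_add, hq]
    have e1 : T.coeff 1 = d * (1 + d * q') := by
      rw [taylor_coeff_one, hgP, derivative_add, eval_add, hq']
      ring
    have e2 : T.eval (d * z) =
        (d * z) * ((d * z) * T.divX.divX.eval (d * z) + T.coeff 1) + T.coeff 0 := by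
      conv_lhs => rw [← X_mul_divX_add T, ← X_mul_divX_add T.divX]
      rw [show T.coeff 1 = T.divX.coeff 0 by rw [coeff_divX]]
      simp only [eval_add, eval_mul, eval_X, eval_C]
    rw [taylor_eval] at e2
    rw [add_comm α, e2, e0, e1]
    simp only [eval_comp, eval_mul, eval_C, eval_X] at hz
    linear_combination d ^ 2 * hz
  · rw [add_sub_cancel_left, ← Ideal.span_singleton_pow]
    exact Ideal.mul_mem_left _ _ (Ideal.pow_le_pow_right (Nat.le_succ c) hzm)

variable {O : Type u} [CommRing O] [IsDomain O] [IsDiscreteValuationRing O] {t : O} (ht : Irreducible t)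
  [IsAdicComplete (Ideal.span {t}) O] (F : Type u) [Field F] [Algebra O F] [IsFractionRing O F]
  (M : Type u) [Field M] [Algebra F M] [FiniteDimensional F M] [Algebra.IsSeparable F M]

include ht in
/-- Monic polynomials near a suitable one define the same separable extension. -/
theorem exists_poly : ∃ (P : O[X]) (N : ℕ), P.Monic ∧ ∀ g : O[X], g.Monic → g.natDegree = P.natDegree →
    (∀ i, t ^ N ∣ (g - P).coeff i) →
      ∃ β : M, minpoly F β = g.map (algebraMap O F) ∧ IntermediateField.adjoin F {β} = ⊤ := by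
  classical
  letI : Algebra O M := ((algebraMap F M).comp (algebraMap O F)).toAlgebra
  haveI : IsScalarTower O F M := IsScalarTower.of_algebraMap_eq fun _ => rfl
  obtain ⟨γ, hγ⟩ := Field.exists_primitive_element F M
  obtain ⟨y, hy0, hy⟩ := exists_integral_multiples O F ({γ} : Finset M)
  let α : M := y • γ
  have hα : IsIntegral O α := hy γ (Finset.mem_singleton_self _)
  have hyF : algebraMap O F y ≠ 0 := by
    rw [ne_eq, map_eq_zero_iff _ (IsFractionRing.injective O F)]; exact hy0
  have hαgen : IntermediateField.adjoin F {α} = ⊤ := by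
    refine le_antisymm le_top (hγ ▸ IntermediateField.adjoin_le_iff.mpr ?_)
    intro x hx
    obtain rfl : x = γ := hx
    have h1 : (algebraMap O F y)⁻¹ • α = x := by
      show (algebraMap O F y)⁻¹ • (y • x) = x
      rw [← IsScalarTower.algebraMap_smul F y x, smul_smul, inv_mul_cancel₀ hyF, one_smul]
    rw [← h1]
    exact IntermediateField.smul_mem _ (IntermediateField.mem_adjoin_simple_self F α)
  let P : O[X] := minpoly O α
  have hP : P.Monic := minpoly.monic hα
  have hPF : minpoly F α = P.map (algebraMap O F) := minpoly.isIntegrallyClosed_eq_field_fractions' F hα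
  let n := P.natDegree
  have hn : Module.finrank F M = n := by
    rw [← IntermediateField.finrank_top', ← hαgen, IntermediateField.adjoin.finrank (IsIntegral.of_finite F α), hPF,
      hP.natDegree_map]
  haveI : FaithfulSMul O M := (faithfulSMul_iff_algebraMap_injective O M).mpr
    ((algebraMap F M).injective.comp (IsFractionRing.injective O F))
  let R := AdjoinRoot P
  haveI : IsDomain R := AdjoinRoot.isDomain_of_prime (minpoly.prime_of_isIntegrallyClosed hα)
  haveI : Module.Finite O R := hP.finite_adjoinRoot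
  haveI : IsAdicComplete (Ideal.span {t}) R := Groth.Agent.Adic7.isAdicComplete_of_finite _ _
  haveI : IsAdicComplete (Ideal.span {algebraMap O R t}) R := by
    have := (IsAdicComplete.map_algebraMap_iff (S := R) (Ideal.span {t}) R).mpr inferInstance
    rwa [Ideal.map_span, Set.image_singleton] at this
  let ι : R →ₐ[O] M := AdjoinRoot.liftAlgHom P (Algebra.ofId O M) α (minpoly.aeval O α)
  let a : R := AdjoinRoot.root P
  have hιa : ι a = α := AdjoinRoot.liftAlgHom_root _ _ _ _
  let PR : R[X] := P.map (algebraMap O R)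
  have hPa : PR.eval a = 0 := by
    rw [eval_map_algebraMap]; rw [AdjoinRoot.aeval_eq]; exact AdjoinRoot.mk_self
  set d := (derivative PR).eval a
  have hd : d ≠ 0 := fun h => by
    have hsep : (minpoly F α).Separable := Algebra.IsSeparable.isSeparable F α
    refine hsep.aeval_derivative_ne_zero (minpoly.aeval F α) ?_
    rw [hPF, derivative_map, aeval_map_algebraMap, ← hιa, aeval_algHom_apply]
    have : aeval a (derivative P) = d := by rw [← eval_map_algebraMap, ← derivative_map]
    rw [this, h, map_zero]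
  obtain ⟨k, hk⟩ : ∃ k, d ∣ algebraMap O R t ^ k := by
    have hint : IsIntegral O d := IsIntegral.of_finite O d
    have hc0 : (minpoly O d).coeff 0 ≠ 0 := fun hc => by
      have h1 := X_mul_divX_add (minpoly O d)
      rw [hc, map_zero, add_zero] at h1
      have h2 : aeval d (minpoly O d).divX = 0 := by
        have h3 := minpoly.aeval O d
        rw [← h1, map_mul, aeval_X] at h3
        exact (mul_eq_zero.mp h3).resolve_left hd
      have hm : (minpoly O d).divX.Monic := (monic_X.of_mul_monic_left (h1.symm ▸ minpoly.monic hint))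
      have h4 := natDegree_le_natDegree (minpoly.min O d hm h2)
      have h5 : (minpoly O d).natDegree = (minpoly O d).divX.natDegree + 1 := by
        conv_lhs => rw [← h1, natDegree_X_mul hm.ne_zero]
      omega
    obtain ⟨k, u, hu⟩ := IsDiscreteValuationRing.eq_unit_mul_pow_irreducible hc0 ht
    refine ⟨k, ?_⟩
    have h0 : d ∣ algebraMap O R ((minpoly O d).coeff 0) := by
      have := minpoly.aeval O d
      rw [← X_mul_divX_add (minpoly O d), map_add, map_mul, aeval_X, aeval_C] at this
      exact ⟨-aeval d (minpoly O d).divX, by linear_combination this⟩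
    rw [hu, map_mul, map_pow] at h0
    exact (IsUnit.dvd_mul_left (u.isUnit.map (algebraMap O R))).mp h0
  let b := (AdjoinRoot.powerBasis' hP).basis
  let D : R → O := fun x => (b.toMatrix fun j : Fin n => x ^ (j : ℕ)).det
  have hDa : D a = 1 := by
    have : (fun j : Fin n => a ^ (j : ℕ)) = b := by
      funext j
      rw [PowerBasis.basis_eq_pow]; rfl
    show (b.toMatrix fun j : Fin n => a ^ (j : ℕ)).det = 1
    exact ((congrArg (fun v => (b.toMatrix v).det) this).trans (congrArg Matrix.det b.toMatrix_self)).trans Matrix.det_one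
  have hcong : ∀ x, x - a ∈ Ideal.span {algebraMap O R t ^ 1} → D x - D a ∈ Ideal.span {t} := by
    intro x hx
    rw [← Ideal.Quotient.eq]
    show Ideal.Quotient.mk _ (Matrix.det _) = Ideal.Quotient.mk _ (Matrix.det _)
    rw [RingHom.map_det, RingHom.map_det]
    congr 1
    refine Matrix.ext fun i j => ?_
    simp only [RingHom.mapMatrix_apply, Matrix.map_apply, Module.Basis.toMatrix_apply]
    rw [Ideal.Quotient.eq]
    obtain ⟨r, hr⟩ := Ideal.mem_span_singleton'.mp
      (Ideal.mem_of_dvd _ (sub_dvd_pow_sub_pow x a (j : ℕ)) hx)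
    rw [← Finsupp.sub_apply, ← map_sub, ← hr, pow_one, mul_comm, ← Algebra.smul_def, map_smul, Finsupp.smul_apply,
      smul_eq_mul]
    exact Ideal.mul_mem_right _ _ (Ideal.mem_span_singleton_self t)
  refine ⟨P, k + k + (1 + 1), hP, fun g hg hgn hgP => ?_⟩
  obtain ⟨x, hx, hxa⟩ := exists_root_near (algebraMap O R t) PR a hPa k hk 1 (g.map (algebraMap O R)) (fun i => by
    rw [← Polynomial.map_sub, coeff_map, ← map_pow]
    exact map_dvd _ (hgP i))
  have hDx : IsUnit (D x) := by
    have h1 : D x - 1 ∈ Ideal.span {t} := hDa ▸ hcong x hxa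
    have h2 : (D x - 1) ∈ Ideal.jacobson (⊥ : Ideal O) := IsAdicComplete.le_jacobson_bot (Ideal.span {t}) h1
    simpa using Ideal.mem_jacobson_bot.mp h2 1
  have hspan : Submodule.span O (Set.range fun j : Fin n => x ^ (j : ℕ)) = ⊤ :=
    ((b.is_basis_iff_det).mpr (by rw [Module.Basis.det_apply]; exact hDx)).2
  let β := ι x
  have hadj : IntermediateField.adjoin F {β} = ⊤ := by
    refine le_antisymm le_top (hαgen ▸ IntermediateField.adjoin_le_iff.mpr ?_)
    intro z hz
    obtain rfl : z = α := hz
    rw [← hιa]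
    have hamem : a ∈ Submodule.span O (Set.range fun j : Fin n => x ^ (j : ℕ)) := hspan ▸ Submodule.mem_top
    obtain ⟨c, hc⟩ := (Submodule.mem_span_range_iff_exists_fun O).mp hamem
    rw [← hc, map_sum]
    refine sum_mem fun j _ => ?_
    rw [map_smul, map_pow, ← IsScalarTower.algebraMap_smul F]
    exact IntermediateField.smul_mem _ (pow_mem (IntermediateField.mem_adjoin_simple_self F β) _)
  refine ⟨β, ?_, hadj⟩
  have hroot : aeval β (g.map (algebraMap O F)) = 0 := by
    rw [aeval_map_algebraMap, aeval_algHom_apply, ← eval_map_algebraMap, hx, map_zero]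
  refine (eq_of_monic_of_dvd_of_natDegree_le (minpoly.monic (IsIntegral.of_finite F β)) (hg.map (algebraMap O F))
    (minpoly.dvd F β hroot) ?_).symm
  rw [hg.natDegree_map, hgn, show P.natDegree = n from rfl, ← hn, ← IntermediateField.finrank_top', ← hadj,
    IntermediateField.adjoin.finrank (IsIntegral.of_finite F β)]

end Groth.Agent.Krasner7
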